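import Mathlib

/-!
# Arithmetic of orders `p q^b g₀` of `PSL(2, p)`
-/

set_option autoImplicit false

namespace CfsgLib.Blocks.OrderP.BrauerTuan

/-- If `k (k + 1)` has a prime power divisor exceeding `k + 1` after doubling, the prime is `2` and
`k` or `k + 1` is a power of two. -/
theorem pow_two_of_cofactor_small {k q b g : ℕ} (hq : q.Prime) (hk : 1 ≤ k)
    (h : q ^ b * g = 2 * k * (k + 1)) (hg : g < 2 * k) :
    q = 2 ∧ (2 ^ b = 2 * k ∧ g = k + 1 ∨ 2 ^ b = 2 * (k + 1) ∧ g = k) := by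
  have hbig : k + 1 < q ^ b := by
    by_contra hle
    push Not at hle
    have h1 : q ^ b * g ≤ (k + 1) * g := Nat.mul_le_mul_right g hle
    have h2 : (k + 1) * g < (k + 1) * (2 * k) := Nat.mul_lt_mul_of_pos_left hg (Nat.succ_pos k)
    rw [h] at h1
    nlinarith
  have hdvd : q ^ b ∣ 2 * (k * (k + 1)) := ⟨g, by rw [h]; ring⟩
  rcases eq_or_ne q 2 with rfl | hq2
  · refine ⟨rfl, ?_⟩
    rcases Nat.even_or_odd k with ⟨j, hj⟩ | hodd
    · have h1 : 2 ^ b ∣ 2 * k := by
        have hc : (2 ^ b).Coprime (k + 1) :=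
          Nat.Coprime.pow_left b (Nat.prime_two.coprime_iff_not_dvd.2 (by omega))
        rw [← mul_assoc] at hdvd
        exact hc.dvd_of_dvd_mul_right hdvd
      obtain ⟨c, hc⟩ := h1
      rcases c with _ | _ | c
      · omega
      · refine Or.inl ⟨by omega, ?_⟩
        rw [show 2 ^ b = 2 * k by omega] at h
        exact Nat.eq_of_mul_eq_mul_left (by omega) h
      · have := Nat.mul_le_mul_left (2 ^ b) (show 2 ≤ c + 1 + 1 by omega)
        omega
    · obtain ⟨j, hj⟩ := hodd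
      have h1 : 2 ^ b ∣ 2 * (k + 1) := by
        have hc : (2 ^ b).Coprime k :=
          Nat.Coprime.pow_left b (Nat.prime_two.coprime_iff_not_dvd.2 (by omega))
        rw [show 2 * (k * (k + 1)) = 2 * (k + 1) * k by ring] at hdvd
        exact hc.dvd_of_dvd_mul_right hdvd
      obtain ⟨c, hc⟩ := h1
      rcases c with _ | _ | c
      · omega
      · refine Or.inr ⟨by omega, ?_⟩
        rw [show 2 ^ b = 2 * (k + 1) by omega, show 2 * k * (k + 1) = 2 * (k + 1) * k by ring] at h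
        exact Nat.eq_of_mul_eq_mul_left (by omega) h
      · have := Nat.mul_le_mul_left (2 ^ b) (show 2 ≤ c + 1 + 1 by omega)
        omega
  · exfalso
    have hc : (q ^ b).Coprime 2 :=
      Nat.Coprime.pow_left b ((Nat.coprime_primes hq Nat.prime_two).2 hq2)
    have h1 := hc.dvd_of_dvd_mul_left hdvd
    by_cases hqk : q ∣ k
    · have hq1 : ¬ q ∣ k + 1 := fun h2 => hq.ne_one (Nat.dvd_one.1 ((Nat.dvd_add_right hqk).1 h2))
      have := Nat.le_of_dvd (by omega)
        ((Nat.Coprime.pow_left b (hq.coprime_iff_not_dvd.2 hq1)).dvd_of_dvd_mul_right h1)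
      omega
    · have := Nat.le_of_dvd (by omega)
        ((Nat.Coprime.pow_left b (hq.coprime_iff_not_dvd.2 hqk)).dvd_of_dvd_mul_left h1)
      omega

/-- Two primes next to each other around a power of two: one is three. -/
theorem small_primes_of_power {p r k a : ℕ} (hp : p.Prime) (hr : r.Prime) (hp3 : 3 < p)
    (hpk : p = 2 * k + 1) (h : 2 ^ a = 2 * k ∧ r = k + 1 ∨ 2 ^ a = 2 * (k + 1) ∧ r = k) :
    p = 5 ∨ p = 7 := by
  have h3 : ∀ d, 3 ∣ d → d.Prime → d = 3 := fun d hd hdp =>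
    ((Nat.prime_dvd_prime_iff_eq Nat.prime_three hdp).1 hd).symm
  have hmod : 2 ^ a % 3 ≠ 0 := fun h0 => by
    have := Nat.prime_three.dvd_of_dvd_pow (Nat.dvd_of_mod_eq_zero h0)
    norm_num at this
  have hpm : p % 3 ≠ 0 := fun h0 => by have := h3 p (Nat.dvd_of_mod_eq_zero h0) hp; omega
  have hr3 : r % 3 = 0 := by
    have hk3 : k % 3 = 0 ∨ k % 3 = 1 ∨ k % 3 = 2 := by omega
    obtain ⟨c, hc⟩ : ∃ c, c = k / 3 := ⟨_, rfl⟩
    rcases hk3 with hk3 | hk3 | hk3 <;>
      have hkc : k = 3 * c + k % 3 := by omega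
    all_goals
      rw [hk3] at hkc
      subst hkc
      rcases h with ⟨h1, h2⟩ | ⟨h1, h2⟩ <;> omega
  have := h3 r (Nat.dvd_of_mod_eq_zero hr3) hr
  omega

end CfsgLib.Blocks.OrderP.BrauerTuan
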