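import Cfsg.Agent.Blocks.OrderP.BrauerTuan.Tensor

/-!
# Bounding the Sylow 2-subgroup by counting products of two conjugate involutions
-/

set_option autoImplicit false
set_option linter.style.haveILetI false
set_option linter.unusedSectionVars false

namespace CfsgLib.Blocks.OrderP.BrauerTuan

open Cfsg CfsgLib Finset CfsgLib.Blocks.OrderP.Perfect
open scoped ComplexConjugate

universe u

variable {p : ℕ} [hp : Fact p.Prime] {G : Type u} [Group G] [Fintype G] [IsSimpleGroup G]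
  {u₀ : G} {n e : ℕ} {M : Ideal AlgInt} (B : Blk p e u₀ M)

/-- An involution of odd class size takes the value zero in a nontrivial character whose degree is
a power of two. -/
theorem apply_eq_zero_of_pow_degree (hG : ¬ IsMulCommutative G) {χ : IrrCharacter G}
    (hne : χ ≠ Chars.oneChar G) {s : ℕ} (hs : charDegree (χ : G → ℂ) = 2 ^ s) {y : G} (hy1 : y ≠ 1)
    (hodd : ¬ 2 ∣ (Subgroup.centralizer ({y} : Set G)).index) {a : ℤ}
    (ha : (χ : G → ℂ) y = (a : ℂ)) : a = 0 := by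
  set L := (Subgroup.centralizer ({y} : Set G)).index
  have hint := Chars.isIntegral_centralChar χ y
  rw [centralChar, ha, ← Chars.coe_charDegree, hs] at hint
  have h1 : IsIntegral ℤ (((L * a.natAbs : ℕ) : ℂ) / ((2 ^ s : ℕ) : ℂ)) := by
    push_cast at hint
    have e : ((a.natAbs : ℕ) : ℂ) = (a : ℂ) ∨ ((a.natAbs : ℕ) : ℂ) = -(a : ℂ) := by
      rcases Int.natAbs_eq a with h | h
      · exact Or.inl (by rw [← Int.cast_natCast, ← h])
      · exact Or.inr (by rw [← Int.cast_natCast, ← Int.cast_neg, eq_comm, ← sub_eq_zero,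
          ← Int.cast_sub]; rw [sub_eq_zero.2 (by omega), Int.cast_zero])
    push_cast
    rcases e with e | e <;> rw [e]
    · exact hint
    · rw [mul_neg, neg_div]
      exact hint.neg
  have hdvd := Chars.dvd_of_isIntegral_div (by positivity) h1
  have hcop : (2 ^ s).Coprime L := Nat.Coprime.pow_left s (Nat.prime_two.coprime_iff_not_dvd.2 hodd)
  have h2 : 2 ^ s ∣ a.natAbs := hcop.dvd_of_dvd_mul_left hdvd
  have hle : a.natAbs ≤ 2 ^ s := by
    have h := Chars.norm_apply_le (Chars.isCharacter_coe χ) y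
    rw [ha, ← Chars.coe_charDegree, hs, Complex.norm_natCast, Complex.norm_intCast,
      ← Int.cast_abs, ← Nat.cast_natAbs] at h
    exact_mod_cast h
  by_contra h0
  have heq : a.natAbs = 2 ^ s :=
    le_antisymm hle (Nat.le_of_dvd (Int.natAbs_pos.2 h0) h2)
  rcases Int.natAbs_eq a with h | h <;> rw [heq] at h <;> rw [h] at ha <;> push_cast at ha
  · exact hy1 (PrimeGram.eq_one_of_value_eq_degree hne
      (by rw [ha, ← Chars.coe_charDegree, hs]; push_cast; rfl))
  · exact PrimeGram.value_ne_neg_degree hG hne hy1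
      (by rw [ha, ← Chars.coe_charDegree, hs]; push_cast; rfl)

open scoped Classical in
/-- The pairs of conjugators of `y` with product `u₀`. -/
noncomputable def pairs (u₀ y : G) : Finset (G × G) :=
  Finset.univ.filter fun q : G × G => q.1 * y * q.1⁻¹ * (q.2 * y * q.2⁻¹) = u₀

theorem pairs_bound (S : Setup p n e u₀) (hM : IsPModular p M) (hG : ¬ IsMulCommutative G)
    (hC : Subgroup.centralizer ({u₀} : Set G) = Subgroup.zpowers u₀) (hε : B.ε = -1)
    (ht : 2 ≤ B.t) {θ : IrrCharacter G} (hθ : θ ∈ B.Y) {g : ℕ}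
    (hg : charDegree (θ : G → ℂ) = g)
    (hneg : ∀ χ ∈ B.X, B.εX χ = -1 → ∃ s, charDegree (χ : G → ℂ) = 2 ^ s)
    (hpos : ∀ χ ∈ B.X, B.εX χ = 1 → χ ≠ Chars.oneChar G → 2 * g ≤ charDegree (χ : G → ℂ))
    {y : G} (hy : y * y = 1) (hy1 : y ≠ 1)
    (hodd : ¬ 2 ∣ (Subgroup.centralizer ({y} : Set G)).index) :
    (pairs u₀ y).Nonempty ∧
      2 * g * (pairs u₀ y).card ≤
        Nat.card G * (2 * g + Nat.card (Subgroup.centralizer ({y} : Set G))) := by
  classical
  have := isMaximal_of_isPModular hM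
  have hint : ∀ χ : IrrCharacter G, ∃ a : ℤ, (χ : G → ℂ) y = (a : ℂ) := fun χ => by
    obtain ⟨a, b, -, h, -⟩ := PrimeGram.exists_even_neg
      (PrimeGram.linear_trivial_of_simple hG) hy (Chars.isCharacter_coe χ)
    exact ⟨(a : ℤ) - b, by rw [h]; push_cast; ring⟩
  choose a ha using hint
  have hyreg : ¬ p ∣ orderOf y := fun h => by
    have h1 := Nat.le_of_dvd two_pos
      (h.trans (orderOf_dvd_of_pow_eq_one (show y ^ 2 = 1 by rw [pow_two, hy])))
    have h2 := S.two_le_e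
    have h3 := Nat.le_of_dvd (by have := hp.out.two_le; omega) S.dvd
    omega
  set d : IrrCharacter G → ℕ := fun χ => charDegree (χ : G → ℂ) with hd
  have hdpos : ∀ χ, (0 : ℝ) < d χ := fun χ => Nat.cast_pos.2 <| Nat.pos_of_ne_zero fun h =>
    Chars.map_one_ne_zero χ (by rw [← Chars.coe_charDegree]; show ((d χ : ℕ) : ℂ) = 0; rw [h]; simp)
  set C := Nat.card (Subgroup.centralizer ({y} : Set G))
  set N := (pairs u₀ y).card
  set T : ℝ := (∑ χ ∈ B.X, (B.εX χ : ℝ) * (a χ : ℝ) ^ 2 / d χ) + (a θ : ℝ) ^ 2 / g with hT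
  have hN : (N : ℝ) = Nat.card G * T := by
    refine Complex.ofReal_injective ?_
    push_cast [hT]
    show ((Finset.univ.filter fun q : G × G => q.1 * y * q.1⁻¹ * (q.2 * y * q.2⁻¹) = u₀).card : ℂ) = _
    rw [PrimeGram.sum_pairs y u₀,
      ← Finset.sum_add_sum_compl (principalBlock M G).toFinite.toFinset]
    have hu1 : u₀⁻¹ = upow u₀ (-1 : ZMod p) := by rw [upow_neg S.hu, upow_one S.hu]
    rw [Finset.sum_eq_zero (s := (principalBlock M G).toFinite.toFinsetᶜ) fun χ hχ => by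
      rw [hu1, S.apply_eq_zero hM hC (by simpa using hχ) (neg_ne_zero.2 one_ne_zero), zero_mul,
        zero_mul], add_zero, B.block_eq, Finset.sum_disjUnion, mul_add, Finset.mul_sum]
    congr 1
    · refine Finset.sum_congr rfl fun χ hχ => ?_
      rw [hu1, B.valX χ hχ _ (neg_ne_zero.2 one_ne_zero), ha χ, ← Chars.coe_charDegree]
      simp only [hd]
      ring
    · have hY : ∀ η ∈ B.Y, (η : G → ℂ) y = (a θ : ℂ) ∧ charDegree (η : G → ℂ) = g := fun η hη =>
        ⟨by rw [B.Y_regular_eq hη hθ hyreg, ha θ], by rw [B.deg_Y_eq hη hθ, hg]⟩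
      rw [Finset.sum_congr rfl fun η hη => by
          rw [hu1, (hY η hη).1, ← Chars.coe_charDegree, (hY η hη).2],
        ← Finset.sum_mul, ← Finset.sum_mul, B.sum_Y_apply S hM (neg_ne_zero.2 one_ne_zero), hε]
      push_cast
      ring
  have hgpos : (0 : ℝ) < g := by rw [← hg]; exact hdpos θ
  have hone : a (Chars.oneChar G) = 1 := by
    have h := ha (Chars.oneChar G)
    rw [Chars.oneChar_apply] at h
    exact_mod_cast h.symm
  have hd1 : d (Chars.oneChar G) = 1 := Chars.charDegree_eq_of_map_one (by simp)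
  have hterm : ∀ χ ∈ B.X.erase (Chars.oneChar G),
      0 ≤ (B.εX χ : ℝ) * (a χ : ℝ) ^ 2 / d χ ∧
      (g : ℝ) * ((B.εX χ : ℝ) * (a χ : ℝ) ^ 2 / d χ) ≤ (a χ : ℝ) ^ 2 / 2 := by
    intro χ hχ
    obtain ⟨h1, hX⟩ := Finset.mem_erase.1 hχ
    rcases B.sign χ hX with h | h
    · rw [h, Int.cast_one, one_mul]
      refine ⟨by have := hdpos χ; positivity, ?_⟩
      have h2 : (2 * g : ℝ) ≤ d χ := by exact_mod_cast hpos χ hX h h1
      rw [← mul_div_assoc, div_le_div_iff₀ (hdpos χ) two_pos]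
      nlinarith [mul_le_mul_of_nonneg_left h2 (sq_nonneg (a χ : ℝ))]
    · obtain ⟨s, hs⟩ := hneg χ hX h
      rw [apply_eq_zero_of_pow_degree hG h1 hs hy1 hodd (ha χ)]
      simp
  have hT1 : 1 ≤ T := by
    rw [hT, ← Finset.add_sum_erase _ _ B.one_mem, B.εX_one, hone, hd1]
    have := Finset.sum_nonneg fun χ hχ => (hterm χ hχ).1
    have h2 : (0 : ℝ) ≤ (a θ : ℝ) ^ 2 / g := by positivity
    push_cast
    linarith
  constructor
  · rw [← Finset.card_pos, ← Nat.cast_pos (α := ℝ), hN]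
    have : (0 : ℝ) < Nat.card G := Nat.cast_pos.2 Nat.card_pos
    nlinarith
  have hcol : (∑ χ ∈ B.X.erase (Chars.oneChar G), (a χ : ℝ) ^ 2) + (B.t : ℝ) * (a θ : ℝ) ^ 2
      ≤ C := by
    have h := Chars.sum_irr_norm_sq y
    simp only [ha, Complex.norm_intCast, sq_abs] at h
    rw [← h]
    have hY : (B.t : ℝ) * (a θ : ℝ) ^ 2 = ∑ η ∈ B.Y, (a η : ℝ) ^ 2 := by
      rw [Finset.sum_congr rfl fun η hη => show (a η : ℝ) ^ 2 = (a θ : ℝ) ^ 2 by
        have h1 : (η : G → ℂ) y = (θ : G → ℂ) y := B.Y_regular_eq hη hθ hyreg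
        rw [ha, ha] at h1
        rw [show a η = a θ by exact_mod_cast h1], Finset.sum_const, B.cardY, nsmul_eq_mul]
    rw [hY, ← Finset.sum_union]
    · exact Finset.sum_le_univ_sum_of_nonneg (fun χ => sq_nonneg _)
    · exact (B.disj).mono_left (Finset.erase_subset _ _)
  have hgT : (g : ℝ) * T ≤ g + C / 2 := by
    rw [hT, ← Finset.add_sum_erase _ _ B.one_mem, B.εX_one, hone, hd1, mul_add, mul_add,
      Finset.mul_sum, mul_div_cancel₀ _ hgpos.ne']
    have h1 := Finset.sum_le_sum fun χ hχ => (hterm χ hχ).2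
    rw [← Finset.sum_div] at h1
    have h2 : (2 : ℝ) * (a θ : ℝ) ^ 2 ≤ (B.t : ℝ) * (a θ : ℝ) ^ 2 :=
      mul_le_mul_of_nonneg_right (by exact_mod_cast ht) (sq_nonneg _)
    push_cast
    linarith
  have h : (2 * g * N : ℝ) ≤ Nat.card G * (2 * g + C) := by
    rw [hN]
    have := mul_le_mul_of_nonneg_left hgT (Nat.cast_nonneg (α := ℝ) (Nat.card G))
    linarith
  exact_mod_cast h

/-- The Sylow 2-subgroup is small. -/
theorem two_pow_le (S : Setup p n e u₀) (hM : IsPModular p M) (hG : ¬ IsMulCommutative G)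
    (hC : Subgroup.centralizer ({u₀} : Set G) = Subgroup.zpowers u₀) (hε : B.ε = -1)
    (ht : 2 ≤ B.t) {θ : IrrCharacter G} (hθ : θ ∈ B.Y) {g b : ℕ}
    (hg : charDegree (θ : G → ℂ) = g) (hgodd : Odd g) (hb : 1 ≤ b)
    (hcard : Nat.card G = p * 2 ^ b * g) (hp2 : p ≠ 2)
    (hneg : ∀ χ ∈ B.X, B.εX χ = -1 → ∃ s, charDegree (χ : G → ℂ) = 2 ^ s)
    (hpos : ∀ χ ∈ B.X, B.εX χ = 1 → χ ≠ Chars.oneChar G → 2 * g ≤ charDegree (χ : G → ℂ)) :
    2 ^ b ≤ 2 * g := by
  classical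
  obtain ⟨T⟩ : Nonempty (Sylow 2 G) := inferInstance
  have hT2 : 2 ^ b ∣ Nat.card (T : Subgroup G) := T.pow_dvd_card_of_pow_dvd_card
    (by rw [hcard]; exact (dvd_mul_left _ p).mul_right g)
  haveI : Nontrivial (T : Subgroup G) := Finite.one_lt_card_iff_nontrivial.mp
    (lt_of_lt_of_le (Nat.one_lt_two_pow (by omega)) (Nat.le_of_dvd Nat.card_pos hT2))
  haveI := T.isPGroup'.center_nontrivial
  obtain ⟨z, hz⟩ := exists_prime_orderOf_dvd_card' 2 (show 2 ∣ Nat.card (Subgroup.center (T : Subgroup G)) by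
    obtain ⟨k, hk⟩ := (T.isPGroup'.to_subgroup (Subgroup.center (T : Subgroup G))).exists_card_eq
    rcases k with _ | k
    · exact absurd hk (Finite.one_lt_card_iff_nontrivial.mpr inferInstance).ne'
    · exact hk ▸ dvd_pow_self 2 k.succ_ne_zero)
  set y₀ : G := ((z : (T : Subgroup G)) : G) with hy₀
  have hy0o : orderOf y₀ = 2 := by rw [hy₀, Subgroup.orderOf_coe, Subgroup.orderOf_coe, hz]
  have hy0 : y₀ * y₀ = 1 := by rw [← pow_two, ← hy0o, pow_orderOf_eq_one]
  have hy01 : y₀ ≠ 1 := fun h => by rw [h, orderOf_one] at hy0o; omega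
  have hodd0 : ¬ 2 ∣ (Subgroup.centralizer ({y₀} : Set G)).index := fun h => T.not_dvd_index
    (h.trans (Subgroup.index_dvd_of_le fun w hw => Subgroup.mem_centralizer_singleton_iff.2
      (congrArg Subtype.val (Subgroup.mem_center_iff.1 z.2 ⟨w, hw⟩))))
  obtain ⟨⟨q₁, q₂⟩, hq⟩ := (pairs_bound B S hM hG hC hε ht hθ hg hneg hpos hy0 hy01 hodd0).1
  simp only [pairs, Finset.mem_filter] at hq
  set y := q₁ * y₀ * q₁⁻¹ with hy_def
  have hy : y * y = 1 := by
    rw [hy_def, show q₁ * y₀ * q₁⁻¹ * (q₁ * y₀ * q₁⁻¹) = q₁ * (y₀ * y₀) * q₁⁻¹ by group, hy0]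
    group
  have hy1 : y ≠ 1 := fun h => hy01 (conj_eq_one_iff.1 h)
  have hinv : y * u₀ * y⁻¹ = u₀⁻¹ := by
    have hyi : y⁻¹ = y := inv_eq_of_mul_eq_one_right hy
    have hwi : (q₂ * y₀ * q₂⁻¹)⁻¹ = q₂ * y₀ * q₂⁻¹ := inv_eq_of_mul_eq_one_right (by
      rw [show q₂ * y₀ * q₂⁻¹ * (q₂ * y₀ * q₂⁻¹) = q₂ * (y₀ * y₀) * q₂⁻¹ by group, hy0]; group)
    have hu : u₀ = y * (q₂ * y₀ * q₂⁻¹) := hq.2.symm
    calc y * u₀ * y⁻¹ = y * (y * (q₂ * y₀ * q₂⁻¹)) * y := by rw [hu, hyi]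
      _ = (q₂ * y₀ * q₂⁻¹) * y := by rw [← mul_assoc y y, hy, one_mul]
      _ = u₀⁻¹ := by rw [hu, mul_inv_rev, hwi, hyi]
  have hCcard : Nat.card (Subgroup.centralizer ({y} : Set G)) =
      Nat.card (Subgroup.centralizer ({y₀} : Set G)) := by
    have h1 := Chars.card_carrier_mul_card_centralizer y
    have h2 := Chars.card_carrier_mul_card_centralizer y₀
    have h3 : ConjClasses.mk y = ConjClasses.mk y₀ :=
      ConjClasses.mk_eq_mk_iff_isConj.mpr (isConj_iff.2 ⟨q₁⁻¹, by rw [hy_def]; group⟩)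
    rw [h3, ← h2] at h1
    exact Nat.eq_of_mul_eq_mul_left (Nat.pos_of_mul_pos_right (h2 ▸ Nat.card_pos)) h1
  have hodd : ¬ 2 ∣ (Subgroup.centralizer ({y} : Set G)).index := by
    have h1 := (Subgroup.centralizer ({y} : Set G)).card_mul_index
    rw [← (Subgroup.centralizer ({y₀} : Set G)).card_mul_index, hCcard] at h1
    rwa [Nat.eq_of_mul_eq_mul_left Nat.card_pos h1]
  have hb2 := (pairs_bound B S hM hG hC hε ht hθ hg hneg hpos hy hy1 hodd).2
  have PS : PrimeGram.Setup p u₀ (⊥ : Subgroup G) :=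
    ⟨S.hu, fun u hu => by rw [Subgroup.mem_bot.1 hu]; exact Commute.one_right _,
      by rw [Subgroup.card_bot, Nat.dvd_one]; exact hp.out.ne_one, fun c hc => by
      have h : c ∈ Subgroup.centralizer ({u₀} : Set G) := Subgroup.mem_centralizer_singleton_iff.2 hc
      rw [hC] at h
      obtain ⟨i, hi⟩ := (mem_zpowers_iff_upow S.hu).1 h
      exact ⟨i, 1, Subgroup.one_mem _, by rw [hi, mul_one]; rfl⟩⟩
  have hN : (pairs u₀ y).card = p * Nat.card (Subgroup.centralizer ({y} : Set G)) ^ 2 :=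
    PS.card_pairs hp2 hy hinv
  rw [hN, hcard] at hb2
  set C := Nat.card (Subgroup.centralizer ({y} : Set G))
  have h2C : 2 ^ b ∣ C := by
    have h := (Subgroup.centralizer ({y} : Set G)).card_mul_index
    have hcop : (2 ^ b).Coprime (Subgroup.centralizer ({y} : Set G)).index :=
      Nat.Coprime.pow_left b (Nat.prime_two.coprime_iff_not_dvd.2 hodd)
    refine hcop.dvd_of_dvd_mul_right (?_ : 2 ^ b ∣ C * _)
    rw [h, hcard]
    exact (dvd_mul_left _ p).mul_right g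
  obtain ⟨m, hm⟩ := h2C
  have hm1 : 1 ≤ m := Nat.one_le_iff_ne_zero.2 fun h0 => by
    have hC0 : 0 < C := Nat.card_pos
    rw [hm, h0, mul_zero] at hC0
    omega
  rw [hm] at hb2
  have hgp : 0 < g := hgodd.pos
  have h2b : 0 < 2 ^ b := by positivity
  have h3 : 2 * (2 ^ b * (m * m)) ≤ 2 * g + 2 ^ b * m := by
    refine Nat.le_of_mul_le_mul_left ?_ (show 0 < p * 2 ^ b * g by
      have := hp.out.pos; positivity)
    calc p * 2 ^ b * g * (2 * (2 ^ b * (m * m))) = 2 * g * (p * (2 ^ b * m) ^ 2) := by ring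
      _ ≤ _ := hb2
  have h4 : 2 ^ b * m ≤ 2 ^ b * (m * m) := Nat.mul_le_mul_left _ (Nat.le_mul_self m)
  have h5 : 2 ^ b ≤ 2 ^ b * m := Nat.le_mul_of_pos_right _ hm1
  omega

end CfsgLib.Blocks.OrderP.BrauerTuan
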