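import Cfsg.Agent.Blocks.OrderP.BrauerTuan.Count
import Cfsg.Agent.SmallPRep.Degree
import Cfsg.Agent.Classical.Linear.Card
import Cfsg.Agent.Chars.Apps.Burnside

/-!
# The theorem of Brauer and Tuan

A noncyclic simple group of order `p q^b g₀` with `g₀ < p - 1` is `PSL(2, p)` or `PSL(2, 2^m)` with
`p = 2^m + 1`.
-/

set_option autoImplicit false
set_option linter.style.haveILetI false
set_option linter.unusedSectionVars false

namespace CfsgLib.Blocks.OrderP.BrauerTuan

open Cfsg CfsgLib Finset CfsgLib.Blocks.OrderP.Perfect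

universe u

theorem eq_of_natCast_eq {p a c : ℕ} [Fact p.Prime] (ha : a < p) (hc : c < p)
    (h : (a : ZMod p) = c) : a = c := by
  have h' := (ZMod.natCast_eq_natCast_iff' a c p).1 h
  rwa [Nat.mod_eq_of_lt ha, Nat.mod_eq_of_lt hc] at h'

theorem dvd_add_of_natCast_eq_neg {p a c : ℕ} (h : (a : ZMod p) = -(c : ZMod p)) : p ∣ a + c := by
  rw [← ZMod.natCast_eq_zero_iff, Nat.cast_add, h, neg_add_cancel]

/-- Arithmetic for the negative degrees. -/
theorem neg_degree_pow {p i g f b : ℕ} (hg : g = 2 ^ i + 1) (hp : p = 2 ^ (i + 1) + 1) (hi : 2 ≤ i)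
    (hdvd : f ∣ 2 ^ b * g) (hle : f ≤ g * g) (hmod : p ∣ f + 1) : ∃ s, f = 2 ^ s := by
  obtain ⟨k, c, hk, hc, rfl⟩ := Nat.dvd_mul.1 hdvd
  obtain ⟨s, -, rfl⟩ := (Nat.dvd_prime_pow Nat.prime_two).1 hk
  rcases eq_or_ne c 1 with rfl | hc1
  · exact ⟨s, by rw [mul_one]⟩
  exfalso
  obtain ⟨h, hh⟩ := hc
  have hpow : 4 ≤ 2 ^ i := (show (4 : ℕ) = 2 ^ 2 by norm_num) ▸ Nat.pow_le_pow_right two_pos hi
  have hodd : ∀ d, d ∣ g → ¬ 2 ∣ d := fun d hd h2 => by
    have h3 : 2 ∣ 2 ^ i := dvd_pow_self 2 (by omega)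
    have h4 := h2.trans hd
    omega
  have hc3 : 3 ≤ c := by
    have h2 := hodd c ⟨h, hh⟩
    rcases c with _ | _ | _ | c <;> omega
  have hh1 : ¬ 2 ∣ h := hodd h ⟨c, by rw [hh]; ring⟩
  have h3h : 3 * h ≤ g := hh ▸ Nat.mul_le_mul_right h hc3
  have hkey : p ∣ 2 ^ s + 2 * h := by
    have h1 : p ∣ (2 ^ s * c + 1) * (2 * h) := hmod.mul_right _
    have h2 : (2 ^ s * c + 1) * (2 * h) = 2 ^ s * p + (2 ^ s + 2 * h) := by
      have h3 : 2 * g = p + 1 := by rw [hg, hp, pow_succ]; ring
      calc (2 ^ s * c + 1) * (2 * h) = 2 ^ s * (2 * (c * h)) + 2 * h := by ring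
        _ = _ := by rw [← hh, h3]; ring
    rw [h2] at h1
    exact (Nat.dvd_add_right (dvd_mul_left p _)).1 h1
  have hp2 : p = 2 * 2 ^ i + 1 := by rw [hp, pow_succ]; ring
  rcases Nat.lt_or_ge s (i + 1) with hs | hs
  · have hs' := Nat.pow_le_pow_right two_pos (show s ≤ i by omega)
    have h1 := Nat.le_of_dvd (by positivity) hkey
    omega
  · have h3s : 3 * 2 ^ s ≤ g * g := le_trans (by rw [mul_comm 3]; exact Nat.mul_le_mul_left _ hc3) hle
    obtain ⟨r, rfl⟩ := Nat.exists_eq_add_of_le hs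
    have hr : 2 ^ r < 2 * 2 ^ i := by
      by_contra hcon
      push Not at hcon
      have : 2 ^ (i + 1 + r) = 2 * 2 ^ i * 2 ^ r := by rw [pow_add, pow_succ]; ring
      nlinarith [Nat.mul_le_mul_left (2 * 2 ^ i) hcon]
    obtain ⟨R, hR⟩ : ∃ R, R = 2 ^ r := ⟨_, rfl⟩
    rw [← hR] at hr
    have h1 : (p : ℤ) ∣ 2 * (h : ℤ) - (R : ℤ) := by
      have h2 : (p : ℤ) ∣ ((2 ^ (i + 1 + r) + 2 * h : ℕ) : ℤ) := Int.natCast_dvd_natCast.2 hkey
      have h3 : ((2 ^ (i + 1 + r) + 2 * h : ℕ) : ℤ) = (p : ℤ) * R + (2 * (h : ℤ) - R) := by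
        rw [hp, hR]; push_cast [pow_add]; ring
      rw [h3] at h2
      exact (dvd_add_right (dvd_mul_right _ _)).1 h2
    obtain ⟨T, hT⟩ : ∃ T, T = 2 ^ i := ⟨_, rfl⟩
    rw [← hT] at hr hpow hg hp2
    have h2 : 2 * (h : ℤ) - (R : ℤ) = 0 := by
      refine Int.eq_zero_of_abs_lt_dvd h1 ?_
      rw [abs_lt]
      constructor <;> omega
    have h4 : 2 * h = 2 ^ r := by rw [← hR]; omega
    rcases r with _ | _ | r
    · omega
    · have h5 : h = 1 := by omega
      rw [h5, mul_one] at hh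
      have h6 : 2 ^ (i + 1 + 1) ≤ g := by
        refine Nat.le_of_mul_le_mul_right ?_ (show 0 < g by omega)
        rw [← hh] at hle
        exact hle
      rw [pow_add, pow_add, ← hT] at h6
      omega
    · exact hh1 ⟨2 ^ r, by rw [pow_succ, pow_succ] at h4; omega⟩

variable {p : ℕ} [hp : Fact p.Prime] {G : Type u} [Group G] [Fintype G] [IsSimpleGroup G]
  {u₀ : G} {n e : ℕ} {M : Ideal AlgInt} (B : Blk p e u₀ M)

/-- The case of an exceptional degree `p - e` with `e` a power of two. -/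
theorem card_lt_cube (S : Setup p n e u₀) (hM : IsPModular p M) (hG : ¬ IsMulCommutative G)
    (hC : Subgroup.centralizer ({u₀} : Set G) = Subgroup.zpowers u₀) (hε : B.ε = -1)
    (ht : 2 ≤ B.t) {θ : IrrCharacter G} (hθ : θ ∈ B.Y) {g b i : ℕ}
    (hg : charDegree (θ : G → ℂ) = g) (hge : g + e = p) (hei : e = 2 ^ i) (hi : 1 ≤ i)
    (hcard : e * (1 + n * p) = 2 ^ b * g)
    (heven : ∀ χ ∈ B.X.erase (Chars.oneChar G), 2 ∣ charDegree (χ : G → ℂ)) :
    Nat.card G < p ^ 3 := by
  classical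
  have hp2 : p ≠ 2 := fun h => by
    have h2 := S.two_le_e
    have h3 := Nat.le_of_dvd (by have := hp.out.two_le; omega) S.dvd
    omega
  have hpodd : ¬ 2 ∣ p := fun h => hp2 ((Nat.prime_dvd_prime_iff_eq Nat.prime_two hp.out).1 h).symm
  have he2 : 2 ∣ e := hei ▸ dvd_pow_self 2 (by omega)
  have hgodd : Odd g := Nat.not_even_iff_odd.1 fun h => by
    obtain ⟨k, hk⟩ := h
    omega
  have hb : 1 ≤ b := by
    rcases Nat.eq_zero_or_pos b with rfl | h
    · exfalso
      rw [pow_zero, one_mul] at hcard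
      have h1 : 2 ∣ g := hcard ▸ he2.mul_right _
      obtain ⟨k, hk⟩ := hgodd
      omega
    · exact h
  have hGcard : Nat.card G = p * 2 ^ b * g := by
    rw [S.card_eq hC, hcard, mul_assoc]
  have hdvd : ∀ χ ∈ B.X, charDegree (χ : G → ℂ) ∣ 2 ^ b * g := fun χ hχ => hcard ▸ B.dvd_X S hχ
  have hmodneg : ∀ χ ∈ B.X, B.εX χ = -1 → p ∣ charDegree (χ : G → ℂ) + 1 := fun χ hχ h =>
    dvd_add_of_natCast_eq_neg (by rw [B.congrX χ hχ, h]; simp)
  have hmodpos : ∀ χ ∈ B.X, B.εX χ = 1 → χ ≠ Chars.oneChar G →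
      p < charDegree (χ : G → ℂ) := fun χ hχ h hne => by
    by_contra hle
    push Not at hle
    have h1 : (charDegree (χ : G → ℂ) : ZMod p) = 1 := by rw [B.congrX χ hχ, h]; simp
    rcases hle.lt_or_eq with h2 | h2
    · exact B.deg_ne_one S (Or.inr hne)
        (eq_of_natCast_eq h2 hp.out.one_lt (h1.trans Nat.cast_one.symm))
    · rw [h2, ZMod.natCast_self] at h1
      exact zero_ne_one h1
  have hsum : (∑ χ ∈ B.X.erase (Chars.oneChar G), B.εX χ * (charDegree (χ : G → ℂ) : ℤ)) =
      -((g : ℤ) + 1) := by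
    have h := B.deg_Y hθ
    rw [hε, hg, ← Finset.add_sum_erase _ _ B.one_mem, B.εX_one,
      show charDegree (Chars.oneChar G : G → ℂ) = 1 from Chars.charDegree_eq_of_map_one (by simp)] at h
    push_cast at h
    linarith
  have key : (∀ χ ∈ B.X, B.εX χ = -1 → ∃ s, charDegree (χ : G → ℂ) = 2 ^ s) ∧
      ∀ χ ∈ B.X, B.εX χ = 1 → χ ≠ Chars.oneChar G → 2 * g ≤ charDegree (χ : G → ℂ) := by
    rcases Nat.lt_or_ge i 2 with hi1 | hi2
    · have he : e = 2 := by rw [hei, show i = 1 by omega, pow_one]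
      obtain ⟨χ, hχ⟩ := Finset.card_eq_one.1 (show (B.X.erase (Chars.oneChar G)).card = 1 by
        rw [Finset.card_erase_of_mem B.one_mem, B.cardX, he])
      rw [hχ, Finset.sum_singleton] at hsum
      have hmem : χ ∈ B.X := Finset.mem_of_mem_erase (hχ ▸ Finset.mem_singleton_self χ)
      have hneg1 : B.εX χ = -1 ∧ charDegree (χ : G → ℂ) = g + 1 := by
        rcases B.sign χ hmem with h | h <;> rw [h] at hsum
        · exfalso; omega
        · exact ⟨h, by omega⟩
      have honly : ∀ ψ ∈ B.X, ψ ≠ Chars.oneChar G → ψ = χ := fun ψ hψ hne =>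
        Finset.mem_singleton.1 (hχ ▸ Finset.mem_erase.2 ⟨hne, hψ⟩)
      refine ⟨fun ψ hψ h => ?_, fun ψ hψ h hne => ?_⟩
      · have hne : ψ ≠ Chars.oneChar G := fun e1 => by rw [e1, B.εX_one] at h; omega
        rw [honly ψ hψ hne, hneg1.2]
        have h1 := hdvd χ hmem
        rw [hneg1.2] at h1
        obtain ⟨s, -, hs⟩ := (Nat.dvd_prime_pow Nat.prime_two).1
          ((Nat.coprime_self_add_left.2 (Nat.coprime_one_left g)).dvd_of_dvd_mul_right h1 :
            g + 1 ∣ 2 ^ b)
        exact ⟨s, hs⟩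
      · rw [honly ψ hψ hne, hneg1.1] at h
        omega
    · have h4 : 4 ∣ e := hei ▸ (show 2 ^ 2 ∣ 2 ^ i from Nat.pow_dvd_pow 2 hi2)
      obtain ⟨k4, hk4⟩ : 4 ∣ B.t * e := h4.mul_left _
      have htp := B.ht
      have hp1 := hp.out.one_lt
      have he4 : 4 ≤ e := Nat.le_of_dvd S.e_pos h4
      have hte : e + e ≤ B.t * e := by
        have := Nat.mul_le_mul_right e ht
        omega
      obtain ⟨χ, hχ, hχ4⟩ : ∃ χ ∈ B.X.erase (Chars.oneChar G), ¬ 4 ∣ charDegree (χ : G → ℂ) := by
        by_contra hcon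
        push Not at hcon
        have h1 : (4 : ℤ) ∣ -((g : ℤ) + 1) := hsum ▸ Finset.dvd_sum fun χ hχ =>
          (show (4 : ℤ) ∣ (charDegree (χ : G → ℂ) : ℤ) by exact_mod_cast hcon χ hχ).mul_left _
        rw [dvd_neg] at h1
        have h2 : 4 ∣ g + 1 := by exact_mod_cast h1
        obtain ⟨e4, he4'⟩ := h4
        omega
      obtain ⟨hne, hmem⟩ := Finset.mem_erase.1 hχ
      obtain ⟨d, hd⟩ := heven χ hχ
      have hdodd : ¬ 2 ∣ d := fun h => hχ4 (by obtain ⟨k, hk⟩ := h; exact ⟨k, by omega⟩)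
      have hd2g : charDegree (χ : G → ℂ) ∣ 2 * g := by
        rw [hd]
        refine Nat.mul_dvd_mul_left 2 ?_
        exact (Nat.Coprime.pow_right b (Nat.prime_two.coprime_iff_not_dvd.2 hdodd).symm).dvd_of_dvd_mul_left
          ((dvd_mul_left d 2).trans (hd ▸ hdvd χ hmem))
      have hle := Nat.le_of_dvd (by omega) hd2g
      have hdeg : charDegree (χ : G → ℂ) = p + 1 := by
        rcases B.sign χ hmem with h | h
        · have h1 := hmodpos χ hmem h hne
          have h2 : (charDegree (χ : G → ℂ) : ZMod p) = 1 := by rw [B.congrX χ hmem, h]; simp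
          have h3 : ((charDegree (χ : G → ℂ) - p : ℕ) : ZMod p) = ((1 : ℕ) : ZMod p) := by
            rw [Nat.cast_sub h1.le, h2, ZMod.natCast_self, sub_zero, Nat.cast_one]
          have := eq_of_natCast_eq (by omega) hp1 h3
          omega
        · exfalso
          obtain ⟨k, hk⟩ := hmodneg χ hmem h
          rcases k with _ | _ | k
          · omega
          · obtain ⟨e4, he4'⟩ := h4
            exact hχ4 ⟨k4, by omega⟩
          · have := Nat.mul_le_mul_left p (show 2 ≤ k + 1 + 1 by omega)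
            omega
      have h2g : 2 * g = p + 1 := by
        obtain ⟨k, hk⟩ := hd2g
        rw [hdeg] at hk
        rcases k with _ | _ | k
        · omega
        · omega
        · have := Nat.mul_le_mul_left (p + 1) (show 2 ≤ k + 1 + 1 by omega)
          omega
      refine ⟨fun ψ hψ h => ?_, fun ψ hψ h hne' => ?_⟩
      · obtain ⟨η₁, hη₁, η₂, hη₂, hne12⟩ := Finset.one_lt_card.1 (show 1 < B.Y.card by
          rw [B.cardY]; omega)
        have h1 := deg_le_sq B S hC hψ hη₁ hη₂ hne12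
        rw [B.deg_Y_eq hη₁ hθ, hg] at h1
        refine neg_degree_pow (p := p) (i := i) ?_ ?_ hi2 (hdvd ψ hψ) h1 (hmodneg ψ hψ h)
        · omega
        · rw [pow_succ]; omega
      · have := hmodpos ψ hψ h hne'
        omega
  have h2b := two_pow_le B S hM hG hC hε ht hθ hg hgodd hb hGcard hp2 key.1 key.2
  have hdvdp : p ∣ 2 ^ b + 1 := by
    have h1 : ((e * (1 + n * p) : ℕ) : ZMod p) = ((2 ^ b * g : ℕ) : ZMod p) := by rw [hcard]
    have h2 : (g : ZMod p) = -(e : ZMod p) :=
      eq_neg_of_add_eq_zero_left (by rw [← Nat.cast_add, hge, ZMod.natCast_self])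
    push_cast at h1
    rw [ZMod.natCast_self, mul_zero, add_zero, mul_one, h2] at h1
    refine dvd_add_of_natCast_eq_neg (c := 1) ?_
    push_cast
    refine mul_right_cancel₀ (Blk.e_cast_ne_zero S) ?_
    linear_combination h1
  have hpb : 2 ^ b + 1 = p := by
    obtain ⟨k, hk⟩ := hdvdp
    rcases k with _ | _ | k
    · rw [mul_zero] at hk; exact absurd hk (Nat.succ_ne_zero _)
    · omega
    · exfalso
      have := Nat.mul_le_mul_left p (show 2 ≤ k + 1 + 1 by omega)
      have := S.two_le_e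
      obtain ⟨j, hj⟩ : 2 ∣ 2 ^ b := dvd_pow_self 2 (by omega)
      omega
  rw [hGcard, pow_succ, pow_two, mul_assoc p, mul_assoc p]
  refine Nat.mul_lt_mul_of_pos_left ?_ hp.out.pos
  calc 2 ^ b * g < p * g := Nat.mul_lt_mul_of_pos_right (by omega) hgodd.pos
    _ ≤ p * p := Nat.mul_le_mul_left p (by omega)

omit B

/-- **Brauer–Tuan**: a noncyclic simple group of order `p q^b g₀` with `g₀ < p - 1`. -/
theorem recognised_of_small_cofactor (hG : ¬ IsMulCommutative G) {q b g₀ : ℕ} (hq : q.Prime)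
    (hpq : p ≠ q) (hcard : Nat.card G = p * q ^ b * g₀) (hg : g₀ < p - 1) : Recognised p G := by
  classical
  have hpp := hp.out
  have hg0 : 0 < g₀ := Nat.pos_of_ne_zero fun h => by
    have := Nat.card_pos (α := G)
    rw [hcard, h, mul_zero] at this
    omega
  have hperf : commutator G = ⊤ := by
    rcases (inferInstance : (commutator G).Normal).eq_bot_or_eq_top with h | h
    · rw [commutator_def, Subgroup.commutator_eq_bot_iff_le_centralizer] at h
      exact absurd ⟨⟨fun a b => Subgroup.mem_centralizer_iff.1 (h (Subgroup.mem_top b)) a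
        (Subgroup.mem_top a)⟩⟩ hG
    · exact h
  have hp5 : 5 ≤ p := by
    rcases Nat.lt_or_ge p 4 with h | h
    · exfalso
      have h2 := hpp.two_le
      have h1 : g₀ = 1 := by omega
      haveI := Chars.Apps.isSolvable_of_card_eq_pow_mul_pow G (p := p) (q := q) (a := 1) (b := b)
        hpp hq (by rw [hcard, h1, mul_one, pow_one])
      exact (Group.IsSolvable.commutator_lt_top_of_nontrivial G).ne hperf
    · rcases h.eq_or_lt with h | h
      · exact absurd (h ▸ hpp) (by norm_num)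
      · omega
  have hpm : ¬ p ∣ q ^ b * g₀ := fun h => by
    rcases hpp.dvd_mul.1 h with h | h
    · exact hpq ((Nat.prime_dvd_prime_iff_eq hpp hq).1 (hpp.dvd_of_dvd_pow h))
    · have := Nat.le_of_dvd hg0 h
      omega
  obtain ⟨P⟩ : Nonempty (Sylow p G) := inferInstance
  have hP : Nat.card (P : Subgroup G) = p :=
    ((PrimeGram.card_sylow_mem_of_constraints hG p (q ^ b * g₀) (by rw [hcard, mul_assoc]) hpm).2 P).1
  obtain ⟨n, hn⟩ : ∃ n, Nat.card (Sylow p G) = 1 + n * p := by
    refine ⟨Nat.card (Sylow p G) / p, ?_⟩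
    have h5 : Nat.card (Sylow p G) % p = 1 :=
      Eq.trans (card_sylow_modEq_one p G) (Nat.one_mod_eq_one.2 hpp.ne_one)
    conv_lhs => rw [← Nat.div_add_mod (Nat.card (Sylow p G)) p, h5]
    ring
  obtain ⟨u₀, e, S⟩ := exists_setup hperf P hP hn
  obtain ⟨M, hM⟩ := exists_isPModular p hpp
  obtain ⟨B⟩ := S.exists_blk (M := M) hM
  have hdiv : e * (1 + n * p) ∣ q ^ b * g₀ := by
    obtain ⟨c, hc⟩ : p ∣ Nat.card (Subgroup.centralizer ({u₀} : Set G)) :=
      S.hu ▸ Subgroup.orderOf_dvd_natCard _ (Subgroup.mem_centralizer_singleton_iff.2 rfl)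
    have h := (Subgroup.centralizer ({u₀} : Set G)).card_mul_index
    rw [S.centralizer_index, hc, hcard, mul_assoc p c, mul_assoc p (q ^ b)] at h
    exact ⟨c, by rw [← Nat.eq_of_mul_eq_mul_left hpp.pos h]; ring⟩
  have hqX : ∀ χ ∈ B.X.erase (Chars.oneChar G), q ∣ charDegree (χ : G → ℂ) := by
    intro χ hχ
    obtain ⟨hne, hmem⟩ := Finset.mem_erase.1 hχ
    by_contra hqd
    have hd : charDegree (χ : G → ℂ) ∣ g₀ :=
      (Nat.Coprime.pow_right b (hq.coprime_iff_not_dvd.2 hqd).symm).dvd_of_dvd_mul_left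
        ((B.dvd_X S hmem).trans hdiv)
    have hle := Nat.le_of_dvd hg0 hd
    rcases B.sign χ hmem with h | h <;> have hc := B.congrX χ hmem <;> rw [h] at hc
    · exact B.deg_ne_one S (Or.inr hne)
        (eq_of_natCast_eq (by omega) hpp.one_lt (by rw [hc]; simp))
    · have h1 := Nat.le_of_dvd (Nat.succ_pos _)
        (dvd_add_of_natCast_eq_neg (a := charDegree (χ : G → ℂ)) (c := 1) (by rw [hc]; simp))
      omega
  obtain ⟨θ, hθ⟩ := B.Y_nonempty
  obtain ⟨g, hg_def⟩ : ∃ g, charDegree (θ : G → ℂ) = g := ⟨_, rfl⟩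
  have hθ1 : θ ≠ Chars.oneChar G := fun h => Finset.disjoint_left.1 B.disj B.one_mem (h ▸ hθ)
  have hsum := B.deg_Y hθ
  rw [← Finset.add_sum_erase _ _ B.one_mem, B.εX_one,
    show charDegree (Chars.oneChar G : G → ℂ) = 1 from Chars.charDegree_eq_of_map_one (by simp)]
    at hsum
  have hW : (q : ℤ) ∣ ∑ χ ∈ B.X.erase (Chars.oneChar G), B.εX χ * (charDegree (χ : G → ℂ) : ℤ) :=
    Finset.dvd_sum fun χ hχ => (Int.natCast_dvd_natCast.2 (hqX χ hχ)).mul_left _
  have hq1 : (q : ℤ) ∣ B.ε * (g : ℤ) - 1 := by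
    rw [← hg_def, hsum]
    push_cast
    simpa using hW
  have hgq : ¬ q ∣ g := fun h => by
    have h1 : (q : ℤ) ∣ 1 := by
      have := dvd_sub ((Int.natCast_dvd_natCast.2 h).mul_left B.ε) hq1
      simpa using this
    have h2 : q ∣ 1 := by exact_mod_cast h1
    exact hq.ne_one (Nat.dvd_one.1 h2)
  have hgdvd : g ∣ g₀ := (Nat.Coprime.pow_right b (hq.coprime_iff_not_dvd.2 hgq).symm).dvd_of_dvd_mul_left
    (hg_def ▸ (B.dvd_Y S hM hθ).trans hdiv)
  have hgle := Nat.le_of_dvd hg0 hgdvd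
  have hfaith : ∀ x : G, (θ : G → ℂ) x = (θ : G → ℂ) 1 → x = 1 := fun x hx =>
    PrimeGram.eq_one_of_value_eq_degree hθ1 hx
  rcases Nat.lt_or_ge (2 * g) p with hsmall | hlarge
  · obtain ⟨m, ρ, -, hρ⟩ := θ.2
    have hm : m = g := by
      rw [← hg_def, ← hρ]
      simp [charDegree, Representation.char_one]
    have hinj : Function.Injective ρ := (injective_iff_map_eq_one' ρ).2 fun x => ⟨fun h => hfaith x (by
      rw [← hρ]
      show LinearMap.trace ℂ _ (ρ x) = LinearMap.trace ℂ _ (ρ 1)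
      rw [h, ρ.map_one]), fun h => by rw [h, map_one]⟩
    have hsq : ¬ p ^ 2 ∣ Nat.card G := fun h => hpm (Nat.dvd_of_mul_dvd_mul_left hpp.pos
      (by rw [← pow_two, ← mul_assoc, ← hcard]; exact h))
    have hnn : ∀ H : Subgroup G, H.Normal → Nat.card H ≠ p := by
      intro H hH h
      rcases hH.eq_bot_or_eq_top with rfl | rfl
      · rw [Subgroup.card_bot] at h; omega
      · rw [Subgroup.card_top] at h
        haveI := isCyclic_of_prime_card (p := p) h
        exact hG (IsCyclic.isMulCommutative)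
    obtain ⟨-, ⟨φ⟩⟩ := SmallPRep.small_degree hsq ⟨q ^ b * g₀, by rw [hcard]; ring⟩ hnn ρ hinj
      (by omega)
    have hZ : Subgroup.center G = ⊥ :=
      (Subgroup.center G).normal_of_characteristic.eq_bot_or_eq_top.resolve_right fun h =>
        hG ⟨⟨fun s t => (Subgroup.mem_center_iff.1 (h ▸ Subgroup.mem_top t) s)⟩⟩
    let ψ : G ≃* Matrix.ProjectiveSpecialLinearGroup (Fin 2) (ZMod p) :=
      ((QuotientGroup.quotientBot (G := G)).symm.trans
        (QuotientGroup.quotientMulEquivOfEq hZ.symm)).trans φ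
    refine ⟨by omega, Or.inl ⟨?_, ZMod p, inferInstance, inferInstance, ZMod.card p, ⟨ψ⟩⟩⟩
    have hc := Classical.Linear.card_psl_two (F := ZMod p)
    rw [ZMod.card, Nat.gcd_eq_left (hpp.even_sub_one (by omega)).two_dvd,
      ← Nat.card_congr ψ.toEquiv] at hc
    rw [hc, show p ^ 2 - 1 = (p + 1) * (p - 1) from by simpa using Nat.sq_sub_sq p 1]
    ring
  · have hgg : g = g₀ := by
      obtain ⟨k, hk⟩ := hgdvd
      rcases k with _ | _ | k
      · omega
      · omega
      · have := Nat.mul_le_mul_left g (show 2 ≤ k + 1 + 1 by omega)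
        omega
    have hep : e < p := by
      have := Nat.le_of_dvd (by omega) S.dvd
      omega
    have hte := B.ht
    have he2 := S.two_le_e
    have hc := B.congrY θ hθ
    rw [hg_def] at hc
    rcases B.hε with hε | hε
    · exfalso
      rw [hε] at hc
      have h1 : g = e := eq_of_natCast_eq (p := p) (by omega) hep (by rw [hc]; simp)
      rcases Nat.lt_or_ge B.t 2 with h2 | h2
      · have h3 := Nat.mul_le_mul_right e (show B.t ≤ 1 by omega)
        omega
      · have h3 := Nat.mul_le_mul_right e h2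
        omega
    · rw [hε] at hc
      have hge : g + e = p := by
        obtain ⟨k, hk⟩ := dvd_add_of_natCast_eq_neg (a := g) (c := e) (by simpa using hc)
        rcases k with _ | _ | k
        · omega
        · omega
        · have := Nat.mul_le_mul_left p (show 2 ≤ k + 1 + 1 by omega)
          omega
      have ht : 2 ≤ B.t := by
        by_contra h
        have h3 := Nat.mul_le_mul_right e (show B.t ≤ 1 by omega)
        omega
      have hcop : e.Coprime g := by
        rw [← Nat.coprime_add_self_right, hge]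
        exact (hpp.coprime_iff_not_dvd.2 fun h => by
          have := Nat.le_of_dvd S.e_pos h; omega).symm
      obtain ⟨i, -, hi⟩ := (Nat.dvd_prime_pow hq).1
        (hcop.dvd_of_dvd_mul_right (hgg ▸ (dvd_mul_right e _).trans hdiv : e ∣ q ^ b * g))
      have hi1 : 1 ≤ i := by
        rcases Nat.eq_zero_or_pos i with rfl | h
        · rw [pow_zero] at hi; omega
        · exact h
      have hqe : q ∣ e := hi ▸ dvd_pow_self q (by omega)
      have hq2 : q = 2 := by
        have h1 : q ∣ g + 1 := by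
          rw [hε] at hq1
          have h2 : (q : ℤ) ∣ -((g : ℤ) + 1) := by
            convert hq1 using 1; ring
          rw [dvd_neg] at h2
          exact_mod_cast h2
        have h3 : q ∣ p - 1 := hqe.trans S.dvd
        have h4 : q ∣ (g + 1) + e := dvd_add h1 hqe
        have h5 : q ∣ 2 := by
          have := Nat.dvd_sub h4 h3
          rwa [show g + 1 + e - (p - 1) = 2 by omega] at this
        exact (Nat.prime_dvd_prime_iff_eq hq Nat.prime_two).1 h5
      subst hq2
      have hC := centralizer_eq B S hM hθ hε (hg_def.symm ▸ hge) hfaith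
      have hcard2 : e * (1 + n * p) = 2 ^ b * g := by
        refine Nat.eq_of_mul_eq_mul_left hpp.pos ?_
        rw [← S.card_eq hC, hcard, hgg]
        ring
      have hlt := card_lt_cube B S hM hG hC hε ht hθ hg_def hge hi hi1 hcard2 hqX
      refine recognised_of_lt_cube hperf ⟨2 ^ b * g₀, by rw [hcard]; ring⟩ hlt P ?_ ?_
      · intro hn'
        rcases hn'.eq_bot_or_eq_top with h | h
        · rw [h, Subgroup.card_bot] at hP; omega
        · rw [h, Subgroup.card_top] at hP
          haveI := isCyclic_of_prime_card (p := p) hP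
          exact hG (IsCyclic.isMulCommutative)
      · intro N hN h
        rcases hN.eq_bot_or_eq_top with rfl | rfl
        · rw [Subgroup.card_bot] at h; omega
        · rw [Subgroup.card_top] at h
          haveI := isCyclic_of_prime_card (p := 2) h
          exact hG (IsCyclic.isMulCommutative)

end CfsgLib.Blocks.OrderP.BrauerTuan
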