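import Cfsg.Agent.Blocks.OrderP.Perfect.Main
import Cfsg.Agent.Blocks.PrimeGram.SimpleOrder
import Cfsg.Agent.Blocks.PrimeGram.SmallPrime

/-!
# Small exceptional characters in the principal block of a group with a Sylow subgroup of order `p`

If a faithful exceptional character has degree `p - e`, then the Sylow subgroup is
self-centralising, and every non-exceptional degree is at most the square of the exceptional one.
-/

set_option autoImplicit false
set_option linter.style.haveILetI false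
set_option linter.unusedSectionVars false

namespace CfsgLib.Blocks.OrderP.BrauerTuan

open Cfsg CfsgLib Finset CfsgLib.Blocks.OrderP.Perfect
open scoped ComplexConjugate

universe u

variable {p : ℕ} [hp : Fact p.Prime] {G : Type u} [Group G] [Fintype G] {u₀ : G} {n e : ℕ}
  {M : Ideal AlgInt} (B : Blk p e u₀ M)

/-- A faithful exceptional character of degree `p - e` makes the Sylow subgroup
self-centralising. -/
theorem centralizer_eq (S : Setup p n e u₀) (hM : IsPModular p M) {θ : IrrCharacter G}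
    (hθ : θ ∈ B.Y) (hε : B.ε = -1) (hd : charDegree (θ : G → ℂ) + e = p)
    (hfaith : ∀ g : G, (θ : G → ℂ) g = (θ : G → ℂ) 1 → g = 1) :
    Subgroup.centralizer ({u₀} : Set G) = Subgroup.zpowers u₀ := by
  classical
  have hpos : (0 : ℝ) < p := Nat.cast_pos.2 hp.out.pos
  have hkey : ∀ y : G, Commute y u₀ → ¬ p ∣ orderOf y → y = 1 := by
    intro y hy hyr
    set P := Subgroup.zpowers u₀
    set E := Subgroup.zpowers y
    have hnorm : ∀ x ∈ E, ∀ z ∈ P, x * z * x⁻¹ ∈ P := by
      intro x hx z hz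
      obtain ⟨a, rfl⟩ := Subgroup.mem_zpowers_iff.1 hx
      obtain ⟨b, rfl⟩ := Subgroup.mem_zpowers_iff.1 hz
      rw [show y ^ a * u₀ ^ b * (y ^ a)⁻¹ = u₀ ^ b from
        mul_inv_eq_iff_eq_mul.2 ((hy.zpow_zpow a b).eq)]
      exact hz
    have hch := isCharacter_average (Chars.isCharacter_coe θ) P E hnorm
    have hval : ∀ x : E, (Nat.card P : ℂ)⁻¹ * ∑ z : P, (θ : G → ℂ) ((x : G) * z) =
        (p : ℂ)⁻¹ * ((θ : G → ℂ) x + (e : ℂ)) := by
      intro x
      rw [Nat.card_zpowers, S.hu, sum_zpowers S.hu (fun z => (θ : G → ℂ) ((x : G) * z)),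
        ← Finset.add_sum_erase _ _ (Finset.mem_univ (0 : ZMod p)), upow_zero S.hu, mul_one]
      congr 1
      have hcx : Commute (x : G) u₀ := by
        obtain ⟨a, ha⟩ := Subgroup.mem_zpowers_iff.1 x.2
        rw [← ha]; exact hy.zpow_left a
      have hxr : ¬ p ∣ orderOf (x : G) := fun h => hyr (h.trans
        (Subgroup.orderOf_dvd_natCard _ x.2 |>.trans (by rw [Nat.card_zpowers])))
      rw [Finset.sum_congr rfl fun i hi => by
        have hi0 := Finset.ne_of_mem_erase hi
        rw [show (x : G) * upow u₀ i = upow u₀ i * x from (hcx.pow_right _).eq,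
          apply_mul_eq hM (orderOf_upow S.hu hi0) (by rw [zpowers_upow S.hu hi0]; exact S.hidx)
            ((B.mem_iff θ).2 (Or.inr hθ)) (hcx.pow_right _) hxr],
        B.sum_powers_Y S hM hθ, hε]
      push_cast
      ring
    set F : E → ℂ := fun x => (Nat.card P : ℂ)⁻¹ * ∑ z : P, (θ : G → ℂ) ((x : G) * z) with hF
    have hp0 : (p : ℂ) ≠ 0 := Nat.cast_ne_zero.2 hp.out.ne_zero
    have h1 : F 1 = 1 := by
      show (Nat.card P : ℂ)⁻¹ * ∑ z : P, (θ : G → ℂ) (((1 : E) : G) * z) = 1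
      rw [hval 1, OneMemClass.coe_one, ← Chars.coe_charDegree, ← Nat.cast_add, hd,
        inv_mul_cancel₀ hp0]
    obtain ⟨l, hl⟩ := Chars.exists_monoidHom_of_map_one_eq_one hch h1
    set w : ℂ := F ⟨y, Subgroup.mem_zpowers y⟩ with hw
    have hwn : ‖w‖ = 1 := by
      refine Chars.norm_eq_one_of_pow_orderOf (g := y) ?_
      rw [hw, hl, ← Units.val_pow_eq_pow_val, ← map_pow]
      rw [show (⟨y, Subgroup.mem_zpowers y⟩ : E) ^ orderOf y = 1 from
        Subtype.ext (pow_orderOf_eq_one y), map_one, Units.val_one]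
    have hθy : (θ : G → ℂ) y = (p : ℂ) * w - (e : ℂ) := by
      rw [hw]
      show _ = (p : ℂ) * ((Nat.card P : ℂ)⁻¹ * ∑ z : P, (θ : G → ℂ) (y * z)) - _
      rw [hval ⟨y, Subgroup.mem_zpowers y⟩, ← mul_assoc, mul_inv_cancel₀ hp0, one_mul]
      simp
    have hle := Chars.norm_apply_le (Chars.isCharacter_coe θ) y
    rw [← Chars.coe_charDegree, Complex.norm_natCast, hθy] at hle
    have hsq := pow_le_pow_left₀ (norm_nonneg _) hle 2
    rw [← Complex.normSq_eq_norm_sq] at hsq
    have hw2 : w.re * w.re + w.im * w.im = 1 := by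
      rw [← Complex.normSq_apply, Complex.normSq_eq_norm_sq, hwn, one_pow]
    have hdR : (charDegree (θ : G → ℂ) : ℝ) + e = p := by exact_mod_cast hd
    simp [Complex.normSq_apply] at hsq
    have he : (0 : ℝ) < e := Nat.cast_pos.2 S.e_pos
    have hre : 1 ≤ w.re := by
      by_contra hcon
      push Not at hcon
      have h2 : (charDegree (θ : G → ℂ) : ℝ) = p - e := by linarith
      rw [h2] at hsq
      have h3 : (p : ℝ) ^ 2 * (w.re * w.re + w.im * w.im) = (p : ℝ) ^ 2 := by rw [hw2, mul_one]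
      nlinarith [mul_lt_mul_of_pos_left hcon (mul_pos hpos he)]
    have him : w.im = 0 := by nlinarith [mul_self_nonneg w.im]
    have hre' : w.re = 1 := by nlinarith [mul_self_nonneg w.im]
    have hw1 : w = 1 := Complex.ext (by simp [hre']) (by simp [him])
    refine hfaith y ?_
    rw [hθy, hw1, ← Chars.coe_charDegree, ← hd]
    push_cast
    ring
  refine le_antisymm (fun c hc => ?_)
    (Subgroup.zpowers_le.2 (Subgroup.mem_centralizer_singleton_iff.2 rfl))
  obtain ⟨hK, m, -, hdec⟩ := exists_centralizer_complement S.hu S.hidx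
  obtain ⟨x, hx, y, hy, hxy⟩ := hdec ⟨c, hc⟩
  simp only at hxy
  have hy1 : (y : G) = 1 := hkey _ (Subgroup.mem_centralizer_singleton_iff.1 y.2)
    fun h => hK (h.trans (by rw [Subgroup.orderOf_coe]; exact Subgroup.orderOf_dvd_natCard _ hy))
  rw [hxy, hy1, mul_one]
  exact hx

/-- In the self-centralising case a `p`-singular element is conjugate to a power of `u₀`. -/
theorem exists_isConj_upow (S : Setup p n e u₀)
    (hC : Subgroup.centralizer ({u₀} : Set G) = Subgroup.zpowers u₀) {g : G}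
    (hg : p ∣ orderOf g) : ∃ i : ZMod p, i ≠ 0 ∧ IsConj (upow u₀ i) g := by
  have hP : IsPGroup p (Subgroup.zpowers u₀) :=
    IsPGroup.of_card (n := 1) (by rw [Nat.card_zpowers, S.hu, pow_one])
  set z := g ^ (orderOf g / p)
  have hz : orderOf z = p := orderOf_pow_orderOf_div (orderOf_pos g).ne' hg
  obtain ⟨Q, hQ⟩ := (IsPGroup.of_card (n := 1) (by rw [Nat.card_zpowers, hz, pow_one]) :
    IsPGroup p (Subgroup.zpowers z)).exists_le_sylow
  obtain ⟨a, ha⟩ := MulAction.exists_smul_eq G Q (hP.toSylow S.hidx)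
  have hmem : a * z * a⁻¹ ∈ Subgroup.zpowers u₀ := by
    show a * z * a⁻¹ ∈ (hP.toSylow S.hidx : Subgroup G)
    rw [← ha]
    exact ⟨z, hQ (Subgroup.mem_zpowers z), rfl⟩
  obtain ⟨i, hi⟩ := (mem_zpowers_iff_upow S.hu).1 hmem
  have hi0 : i ≠ 0 := by
    rintro rfl
    rw [upow_zero S.hu, conj_eq_one_iff] at hi
    rw [hi, orderOf_one] at hz
    exact hp.out.ne_one hz.symm
  have hc : a * g * a⁻¹ ∈ Subgroup.centralizer ({upow u₀ i} : Set G) := by
    rw [Subgroup.mem_centralizer_singleton_iff, ← hi]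
    have h : Commute g z := (Commute.refl g).pow_right _
    calc a * g * a⁻¹ * (a * z * a⁻¹) = a * (g * z) * a⁻¹ := by group
      _ = a * (z * g) * a⁻¹ := by rw [h.eq]
      _ = _ := by group
  rw [S.centralizer_upow hi0, hC] at hc
  obtain ⟨j, hj⟩ := (mem_zpowers_iff_upow S.hu).1 hc
  refine ⟨j, ?_, isConj_iff.2 ⟨a⁻¹, by rw [← hj]; group⟩⟩
  rintro rfl
  rw [upow_zero S.hu, conj_eq_one_iff] at hj
  rw [hj, orderOf_one, Nat.dvd_one] at hg
  exact hp.out.ne_one hg

/-- The tensor argument: every non-exceptional degree is at most the square of the exceptional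
one. -/
theorem deg_le_sq (S : Setup p n e u₀)
    (hC : Subgroup.centralizer ({u₀} : Set G) = Subgroup.zpowers u₀) {χ θ η : IrrCharacter G}
    (hχ : χ ∈ B.X) (hθ : θ ∈ B.Y) (hη : η ∈ B.Y) (hne : θ ≠ η) :
    charDegree (χ : G → ℂ) ≤ charDegree (θ : G → ℂ) * charDegree (θ : G → ℂ) := by
  classical
  have hN : (Nat.card G : ℂ)⁻¹ ≠ 0 := inv_ne_zero Chars.natCard_ne_zero
  set D : G → ℂ := fun g => conj ((θ : G → ℂ) g) - conj ((η : G → ℂ) g)
  have hpt : ∀ g : G, (χ : G → ℂ) g * (θ : G → ℂ) g * D g =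
      (B.εX χ : ℂ) * ((θ : G → ℂ) g * D g) := by
    intro g
    by_cases hg : p ∣ orderOf g
    · obtain ⟨i, hi, hcj⟩ := exists_isConj_upow S hC hg
      rw [← Chars.eq_of_isConj (Chars.isClassFunction_coe χ) hcj, B.valX χ hχ i hi, mul_assoc]
    · simp [D, B.Y_regular_eq hθ hη hg]
  have hsum : classInner ((χ : G → ℂ) * (θ : G → ℂ)) (θ : G → ℂ) -
      classInner ((χ : G → ℂ) * (θ : G → ℂ)) (η : G → ℂ) = (B.εX χ : ℂ) := by
    have h : (B.εX χ : ℂ) = (B.εX χ : ℂ) *
        (classInner (θ : G → ℂ) (θ : G → ℂ) - classInner (θ : G → ℂ) (η : G → ℂ)) := by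
      rw [Chars.classInner_self, Chars.classInner_of_ne hne, sub_zero, mul_one]
    rw [h]
    simp only [classInner, Pi.mul_apply, ← mul_sub, ← Finset.sum_sub_distrib]
    simp only [← mul_assoc, mul_comm ((B.εX χ : ℂ)) (Nat.card G : ℂ)⁻¹, Finset.mul_sum]
    refine Finset.sum_congr rfl fun g _ => ?_
    have := hpt g
    simp only [D] at this
    linear_combination (Nat.card G : ℂ)⁻¹ * this
  obtain ⟨ψ, hψY, hψ⟩ : ∃ ψ ∈ B.Y,
      classInner ((χ : G → ℂ) * (θ : G → ℂ)) (ψ : G → ℂ) ≠ 0 := by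
    by_contra hcon
    push Not at hcon
    rw [hcon θ hθ, hcon η hη, sub_zero] at hsum
    rcases B.sign χ hχ with h | h <;> simp [h] at hsum
  have hc : classInner (fun g => (ψ : G → ℂ) g * conj ((θ : G → ℂ) g)) (χ : G → ℂ) =
      conj (classInner ((χ : G → ℂ) * (θ : G → ℂ)) (ψ : G → ℂ)) := by
    rw [Chars.classInner_conj_symm]
    simp only [classInner, Pi.mul_apply, map_mul]
    congr 1
    exact Finset.sum_congr rfl fun g _ => by ring
  have hch : IsCharacter G (fun g => (ψ : G → ℂ) g * conj ((θ : G → ℂ) g)) :=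
    Chars.isCharacter_mul (Chars.isCharacter_coe ψ) (Chars.isCharacter_conj (Chars.isCharacter_coe θ))
  obtain ⟨φ, hφ, heq⟩ := Chars.exists_add_of_classInner_ne_zero hch χ
    (by rw [hc]; exact (map_ne_zero _).2 hψ)
  obtain ⟨j, hj⟩ := Chars.exists_natCast_map_one hφ
  have h1 := congrFun heq 1
  simp only [Pi.add_apply, ← Chars.coe_charDegree, hj, map_natCast, B.deg_Y_eq hψY hθ] at h1
  have h2 : charDegree (θ : G → ℂ) * charDegree (θ : G → ℂ) = charDegree (χ : G → ℂ) + j := by
    exact_mod_cast h1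
  omega

end CfsgLib.Blocks.OrderP.BrauerTuan
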